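import Groth.Agent.NumBlowLib.Pic
import Groth.Prelude.Def_NumR
import Mathlib.LinearAlgebra.TensorProduct.Prod

/-!
# The Picard number of the blow-up of a point of a surface
-/

set_option autoImplicit false
set_option linter.style.haveILetI false
set_option maxHeartbeats 1000000

universe u

open CategoryTheory AlgebraicGeometry TensorProduct
open CubeConsLib (PicA clA clA_eq_iff pullA pullA_clA clA_tensor clA_one isInvertible_one exists_clA_zsmul)

noncomputable section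

namespace NumBlowLib

section Group

variable {X : Scheme.{u}} [PicGrp.Law X]

/-- The comparison of the two Picard groups. -/
def toA : PicLoc.PicSet X →* Multiplicative (PicA X) where
  toFun c := Multiplicative.ofAdd (clA (PicGrp.exists_eq_cls c).choose_spec.choose)
  map_one' := by
    obtain ⟨hL, e⟩ := (PicGrp.exists_eq_cls (1 : PicLoc.PicSet X)).choose_spec
    exact congrArg Multiplicative.ofAdd (((clA_eq_iff _ (isInvertible_one _)).2
      ((PicGrp.cls_eq_one_iff _).1 e.symm)).trans (clA_one _))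
  map_mul' a b := by
    have ea := (PicGrp.exists_eq_cls a).choose_spec.choose_spec
    have eb := (PicGrp.exists_eq_cls b).choose_spec.choose_spec
    have eab := (PicGrp.exists_eq_cls (a * b)).choose_spec.choose_spec
    rw [← ofAdd_add, ← clA_tensor]
    refine congrArg Multiplicative.ofAdd ((clA_eq_iff _ _).2 ((PicGrp.cl_eq_cl_iff _ _).1 ?_))
    refine (congrArg Subtype.val eab).symm.trans ?_
    rw [← PicGrp.cls_mul_cls_val (PicGrp.exists_eq_cls a).choose_spec.choose (PicGrp.exists_eq_cls b).choose_spec.choose,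
      ← ea, ← eb]

theorem toA_cls {L : X.Modules} (hL : PicF.IsInvertible L) :
    toA (PicGrp.cls L hL) = Multiplicative.ofAdd (clA hL) :=
  congrArg Multiplicative.ofAdd ((clA_eq_iff _ _).2 ((PicGrp.cls_eq_cls_iff _ _).1
    (PicGrp.exists_eq_cls (PicGrp.cls L hL)).choose_spec.choose_spec.symm))

theorem toA_injective : Function.Injective (toA (X := X)) := fun a b h => by
  obtain ⟨L, hL, rfl⟩ := PicGrp.exists_eq_cls a
  obtain ⟨M, hM, rfl⟩ := PicGrp.exists_eq_cls b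
  rw [toA_cls, toA_cls] at h
  exact (PicGrp.cls_eq_cls_iff _ _).2 ((clA_eq_iff _ _).1 (Multiplicative.ofAdd.injective h))

variable {k : Type u} [Field k] [X.Over (Spec (CommRingCat.of k))] [IsProper (X ↘ Spec (CommRingCat.of k))]

/-- The classes killed in `N¹`. -/
theorem mem_subCl_iff {c : PicLoc.PicSet X} :
    c ∈ PicGrp.subCl (Y := X) (Pic13.IsNumEquivZero k X) ↔
      ∃ (L : X.Modules) (hL : PicF.IsInvertible L), c = PicGrp.cls L hL ∧ NumTrivLib.NT k L := by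
  refine ⟨fun h => ?_, fun ⟨L, hL, e, hn⟩ => e ▸ PicGrp.cls_mem_subCl hL hn.isNumEquivZero⟩
  induction h using Subgroup.closure_induction with
  | mem c hc =>
    obtain ⟨L, hL, hP, rfl⟩ := hc
    exact ⟨L, hL, rfl, NumTrivLib.NT.of_isNumEquivZero hL hP⟩
  | one => exact ⟨_, _, PicGrp.cls_structureModule_eq_one.symm, NumTrivLib.NT.unit⟩
  | mul a b _ _ iha ihb =>
    obtain ⟨L, hL, rfl, hLn⟩ := iha
    obtain ⟨M, hM, rfl, hMn⟩ := ihb
    exact ⟨_, HilbPolyLib.isInvertible_tensor hL hM, Subtype.ext (PicGrp.cls_mul_cls_val hL hM), hLn.tensor hMn⟩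
  | inv a _ iha =>
    obtain ⟨L, hL, rfl, hLn⟩ := iha
    obtain ⟨e⟩ := MiscFlat6.nonempty_dualIso hL
    exact ⟨_, MiscFlat6.dual_isInvertible hL, PicGrp.cls_inv_eq_cls hL (MiscFlat6.dual_isInvertible hL) ⟨e⟩,
      hLn.inverse e⟩

end Group

variable {k : Type u} [Field k] [IsAlgClosed k] {X X' : Scheme.{u}} [X.Over (Spec (CommRingCat.of k))]
  [IsProper (X ↘ Spec (CommRingCat.of k))] [X'.Over (Spec (CommRingCat.of k))]
  [IsProper (X' ↘ Spec (CommRingCat.of k))]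
  (π : X' ⟶ X) (hover : π ≫ (X ↘ Spec (CommRingCat.of k)) = X' ↘ Spec (CommRingCat.of k))
  (x : X) (hx : IsClosed ({x} : Set X))
  [IsRegularLocalRing (X.presheaf.stalk x)] (hd2 : ringKrullDim (X.presheaf.stalk x) = (2 : ℕ))
  (hπ : BlowUp.IsBlowUp π (Scheme.IdealSheafData.vanishingIdeal ⟨{x}, hx⟩))
  [PicGrp.Law X] [PicGrp.Law X'] (hπm : PicGrp.PullMul π)

include hover hd2 hπ hπm in
/-- `N¹(X') = N¹(X) ⊕ ℤ`. -/
theorem nonempty_addEquiv : Nonempty ((NumR.N1 k X × ℤ) ≃+ NumR.N1 k X') := by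
  classical
  have hle : PicGrp.subCl (Y := X) (Pic13.IsNumEquivZero k X) ≤
      (PicGrp.subCl (Y := X') (Pic13.IsNumEquivZero k X')).comap (PicGrp.pullHom π hπm) := fun c hc => by
    obtain ⟨L, hL, rfl, hn⟩ := mem_subCl_iff.1 hc
    rw [Subgroup.mem_comap, PicGrp.pullHom_cls]
    exact mem_subCl_iff.2 ⟨_, _, rfl, hn.pullback hover⟩
  let pN : NumR.N1 k X →+ NumR.N1 k X' := MonoidHom.toAdditive (QuotientGroup.map _ _ (PicGrp.pullHom π hπm) hle)
  let c0 : PicLoc.PicSet X' := PicGrp.cls _ (excI_invertible π x hx hπ)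
  let Φ : NumR.N1 k X × ℤ →+ NumR.N1 k X' :=
    pN.coprod (zmultiplesHom _ (NumR.toN1 k X' (Additive.ofMul c0)))
  have hΦ : ∀ (L : X.Modules) (hL : PicF.IsInvertible L) (d : ℤ), Φ (NumR.cl k X L hL, d) =
      NumR.toN1 k X' (Additive.ofMul (PicGrp.pullHom π hπm (PicGrp.cls L hL) * c0 ^ d)) := fun L hL d => by
    rw [ofMul_mul, ofMul_zpow, map_add, map_zsmul]
    rfl
  have hA : ∀ (L : X.Modules) (hL : PicF.IsInvertible L) (d : ℤ),
      toA (PicGrp.pullHom π hπm (PicGrp.cls L hL) * c0 ^ d) =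
        Multiplicative.ofAdd (pullA π (clA hL) + d • eCl π x hx hπ) := fun L hL d => by
    rw [map_mul, map_zpow, PicGrp.pullHom_cls, toA_cls, toA_cls, pullA_clA, ← ofAdd_zsmul, ← ofAdd_add]
    rfl
  refine ⟨AddEquiv.ofBijective Φ ⟨(injective_iff_map_eq_zero Φ).2 fun a ha => ?_, fun y => ?_⟩⟩
  · obtain ⟨n, d⟩ := a
    obtain ⟨L, hL, rfl⟩ := NumR.exists_eq_cl n
    rw [hΦ] at ha
    obtain ⟨F, hF, hFe, hFn⟩ := mem_subCl_iff.1 ((QuotientGroup.eq_one_iff _).1 ha)
    have hcl := congrArg toA hFe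
    rw [toA_cls] at hcl
    obtain ⟨rfl, hn⟩ := (numTriv_decomp (k := k) π hover x hx hd2 hπ hF hL d
      (Multiplicative.ofAdd.injective (hcl.symm.trans (hA L hL d)))).1 hFn
    exact Prod.ext (NumR.cl_eq_zero hL hn.isNumEquivZero) rfl
  · obtain ⟨F, hF, rfl⟩ := NumR.exists_eq_cl y
    obtain ⟨L, hL, d, h⟩ := exists_decomp (k := k) π x hx hd2 hπ hF
    refine ⟨(NumR.cl k X L hL, d), ?_⟩
    rw [hΦ, toA_injective ((hA L hL d).trans (((congrArg Multiplicative.ofAdd h).symm).trans (toA_cls hF).symm))]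
    rfl

/-- Real vector spaces of classes. -/
theorem finite_finrank (e : Nonempty ((NumR.N1 k X × ℤ) ≃+ NumR.N1 k X')) [Module.Finite ℝ (NumR.N1R k X)] :
    Module.Finite ℝ (NumR.N1R k X') ∧
      Module.finrank ℝ (NumR.N1R k X') = Module.finrank ℝ (NumR.N1R k X) + 1 := by
  obtain ⟨e⟩ := e
  haveI : Module.Finite ℝ (ℝ ⊗[ℤ] NumR.N1 k X) := ‹Module.Finite ℝ (NumR.N1R k X)›
  let E :=
    (LinearEquiv.refl ℝ _).prodCongr (TensorProduct.AlgebraTensorModule.rid ℤ ℝ ℝ).symm ≪≫ₗ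
      (TensorProduct.prodRight ℤ ℝ ℝ (NumR.N1 k X) ℤ).symm ≪≫ₗ
      TensorProduct.AlgebraTensorModule.congr (LinearEquiv.refl ℝ ℝ) e.toIntLinearEquiv
  refine ⟨show Module.Finite ℝ (ℝ ⊗[ℤ] NumR.N1 k X') from Module.Finite.equiv E, ?_⟩
  show Module.finrank ℝ (ℝ ⊗[ℤ] NumR.N1 k X') = Module.finrank ℝ (ℝ ⊗[ℤ] NumR.N1 k X) + 1
  rw [← E.finrank_eq, Module.finrank_prod, Module.finrank_self]

end NumBlowLib

end
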