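import Groth.Agent.BlowRegLib.ExcData
import Groth.Agent.BlowRegLib.Counit
import Groth.Agent.BlowRegLib.ArithBlow
import Groth.Agent.NumTrivLib.Desc
import Groth.Agent.SquareLib.Cube

/-!
# The Picard group of the blow-up of a point of a surface
-/

set_option autoImplicit false
set_option linter.style.haveILetI false
set_option linter.unusedSectionVars false
set_option maxHeartbeats 1000000
set_option backward.isDefEq.respectTransparency false
set_option backward.isDefEq.respectTransparency.types false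

universe u

open CategoryTheory CategoryTheory.Limits AlgebraicGeometry TopologicalSpace Opposite
open HilbPolyLib (congrLeft congrRight)
open KFlatLib (pb)
open CubeConsLib (PicA clA clA_eq_iff pullA pullA_clA clA_tensor clA_one isInvertible_one exists_clA_zsmul pullA_comp)

noncomputable section

namespace NumBlowLib

section Line

variable (k : Type u) [Field k]

/-- The classes of the twists on the line. -/
theorem clA_twist (d : ℤ) :
    clA (PicPnLib.twist_inv 1 k d) = d • clA (PicPnLib.twist_inv 1 k 1) := by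
  let a : ℤ → PicA (CohB1.ProjSpace 1 k) := fun d => clA (PicPnLib.twist_inv 1 k d)
  have hadd : ∀ p q, a (p + q) = a p + a q := fun p q => by
    show clA _ = clA _ + clA _
    rw [← clA_tensor]
    exact (clA_eq_iff _ _).2 ((PicPnLib.twist_add 1 k p q).map Iso.symm)
  have := map_zsmul (AddMonoidHom.mk' a hadd) d 1
  rwa [smul_eq_mul, mul_one] at this

end Line

variable {k : Type u} [Field k] [IsAlgClosed k] {X X' : Scheme.{u}} [X.Over (Spec (CommRingCat.of k))]
  [IsProper (X ↘ Spec (CommRingCat.of k))] [X'.Over (Spec (CommRingCat.of k))]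
  [IsProper (X' ↘ Spec (CommRingCat.of k))]
  (π : X' ⟶ X) (hover : π ≫ (X ↘ Spec (CommRingCat.of k)) = X' ↘ Spec (CommRingCat.of k))
  (x : X) (hx : IsClosed ({x} : Set X))
  [IsRegularLocalRing (X.presheaf.stalk x)] (hd2 : ringKrullDim (X.presheaf.stalk x) = (2 : ℕ))
  (hπ : BlowUp.IsBlowUp π (Scheme.IdealSheafData.vanishingIdeal ⟨{x}, hx⟩))

/-- The ideal of the exceptional curve. -/
abbrev excI : X'.IdealSheafData := (Scheme.IdealSheafData.vanishingIdeal ⟨{x}, hx⟩).comap π

include hπ in
theorem excI_invertible : PicF.IsInvertible (ClSub.idealMod (excI π x hx)) :=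
  IntMultLib.isInvertible_idealMod _ hπ.1

/-- The class of the ideal of the exceptional curve. -/
def eCl : PicA X' := clA (excI_invertible π x hx hπ)

include hd2 hπ in
/-- The exceptional curve is a line, with conormal module `O(1)`. -/
theorem exists_line : ∃ φ : (excI π x hx).subscheme ⟶ CohB1.ProjSpace 1 k, IsIso φ ∧
    φ ≫ CohB1.ProjSpace.toSpec 1 k = (excI π x hx).subschemeι ≫ π ≫ (X ↘ Spec (CommRingCat.of k)) ∧
    pullA (excI π x hx).subschemeι (eCl π x hx hπ) = pullA φ (clA (PicPnLib.twist_inv 1 k 1)) := by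
  haveI := CurvLib.isNoetherian k (X := X)
  let P : Fin 1 → X := fun _ => x
  have hr : Set.range P = {x} := Set.range_const
  have hZ : IsClosed (Set.range P) := hr ▸ hx
  have hvi : Scheme.IdealSheafData.vanishingIdeal (⟨Set.range P, hZ⟩ : Closeds X) =
      Scheme.IdealSheafData.vanishingIdeal ⟨{x}, hx⟩ := by
    congr 1; exact Closeds.ext hr
  obtain ⟨-, φ, hφ, hφk, ⟨e⟩⟩ := BlowRegLib.exists_line (k := k) P (fun a b _ => Subsingleton.elim a b) (fun _ => hx)
    hZ (fun _ => ⟨inferInstance, hd2⟩) (σ := π) (hvi ▸ hπ) 0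
  refine ⟨φ, hφ, hφk, ?_⟩
  rw [eCl, pullA_clA, pullA_clA]
  exact (clA_eq_iff _ _).2 ⟨e.symm⟩

/-- Pullbacks are trivial on the exceptional curve. -/
theorem pullA_exc_pullback {L : X.Modules} (hL : PicF.IsInvertible L) :
    pullA (excI π x hx).subschemeι (pullA π (clA hL)) = 0 := by
  rw [pullA_comp, pullA_clA, ← clA_one, clA_eq_iff]
  obtain ⟨V, hV, ⟨t⟩⟩ := hL x
  refine BlowPtLib.nonempty_pb_trivial ((excI π x hx).subschemeι ≫ π) V (fun z => ?_) t
  have h : (excI π x hx).subschemeι z ∈ (excI π x hx).support :=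
    (Scheme.IdealSheafData.range_subschemeι _).subset ⟨z, rfl⟩
  have h' := (Scheme.IdealSheafData.support_comap _ π).le h
  rw [← SetLike.mem_coe] at h'
  have h'' : π ((excI π x hx).subschemeι z) ∈
      ((Scheme.IdealSheafData.vanishingIdeal ⟨{x}, hx⟩).support : Set X) := h'
  rw [Scheme.IdealSheafData.coe_support_vanishingIdeal] at h''
  rw [Scheme.Hom.comp_apply, show π ((excI π x hx).subschemeι z) = x from h'']
  exact hV

include k hd2 hπ in
/-- `π` is surjective. -/
theorem surjective : Surjective π := by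
  haveI := CurvLib.isNoetherian k (X := X)
  obtain ⟨φ, hφ, -, -⟩ := exists_line (k := k) π x hx hd2 hπ
  haveI := hφ
  refine ⟨fun y => ?_⟩
  by_cases hy : y = x
  · haveI : IsIntegral (CohB1.ProjSpace 1 k) := VBP1Lib.isIntegral_line k
    obtain ⟨c⟩ := (inferInstance : Nonempty (CohB1.ProjSpace 1 k))
    refine ⟨(excI π x hx).subschemeι (inv φ c), ?_⟩
    have h : (excI π x hx).subschemeι (inv φ c) ∈ (excI π x hx).support :=
      (Scheme.IdealSheafData.range_subschemeι _).subset ⟨_, rfl⟩
    have h' : π ((excI π x hx).subschemeι (inv φ c)) ∈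
        ((Scheme.IdealSheafData.vanishingIdeal ⟨{x}, hx⟩).support : Set X) :=
      (Scheme.IdealSheafData.support_comap _ π).le h
    rw [Scheme.IdealSheafData.coe_support_vanishingIdeal] at h'
    exact (show _ = x from h').trans hy.symm
  · let V : X.Opens := ⟨({x} : Set X)ᶜ, hx.isOpen_compl⟩
    haveI := BlowRegLib.isIso_off_centre hπ V (BlowPtLib.comap_eq_top_of_disjoint V.ι _ fun z h => by
      rw [← SetLike.mem_coe, Scheme.IdealSheafData.coe_support_vanishingIdeal] at h
      exact z.2 h)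
    obtain ⟨a, ha⟩ := (π ∣_ V).homeomorph.surjective ⟨y, hy⟩
    exact ⟨a.1, (morphismRestrict_base_coe π V a).symm.trans (congrArg Subtype.val ha)⟩

include k hd2 hπ in
/-- Invertible modules trivial on the exceptional curve come from the surface. -/
theorem exists_descent {M : X'.Modules} (hM : PicF.IsInvertible M)
    (h0 : pullA (excI π x hx).subschemeι (clA hM) = 0) :
    ∃ (L : X.Modules) (hL : PicF.IsInvertible L), pullA π (clA hL) = clA hM := by
  haveI := CurvLib.isNoetherian k (X := X)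
  haveI := surjective (k := k) π x hx hd2 hπ
  let P : Fin 1 → X := fun _ => x
  have hr : Set.range P = {x} := Set.range_const
  have hZ : IsClosed (Set.range P) := hr ▸ hx
  have hvi : Scheme.IdealSheafData.vanishingIdeal (⟨Set.range P, hZ⟩ : Closeds X) =
      Scheme.IdealSheafData.vanishingIdeal ⟨{x}, hx⟩ := by
    congr 1; exact Closeds.ext hr
  rw [pullA_clA, ← clA_one, clA_eq_iff] at h0
  obtain ⟨t⟩ := h0
  have hE : Nonempty (pb (BlowUp.exceptional π (Scheme.IdealSheafData.vanishingIdeal ⟨Set.range P, hZ⟩)).subschemeι M ≅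
      FlatMod.freeMod (BlowUp.exceptional π (Scheme.IdealSheafData.vanishingIdeal ⟨Set.range P, hZ⟩)).subscheme 1) := by
    have he : BlowUp.exceptional π (Scheme.IdealSheafData.vanishingIdeal ⟨Set.range P, hZ⟩) = excI π x hx := by
      show (Scheme.IdealSheafData.vanishingIdeal ⟨Set.range P, hZ⟩).comap π = _
      rw [hvi]
    rw [he]
    exact ⟨t ≪≫ (BlowRegLib.freeOne _).symm⟩
  obtain ⟨hreg, hloc⟩ := BlowRegLib.counit_of_trivial_on_exceptional P (fun a b _ => Subsingleton.elim a b)
    (fun _ => hx) hZ (fun _ => ⟨inferInstance, hd2⟩) (hvi ▸ hπ)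
    (AmpleDevLib.isFinLocFree_of_isInvertible hM) 1 hE
  obtain ⟨-, hiso⟩ := BlowRegLib.counit_of_locally_trivial (hvi ▸ hπ) hreg hloc
  have hinv : PicF.IsInvertible ((Coh.push π).obj M) := fun y => by
    obtain ⟨W, n, hyW, ⟨s⟩⟩ := hloc y
    obtain ⟨s'⟩ := BlowRegLib.nonempty_push_free (hvi ▸ hπ) hreg s
    obtain ⟨z, hz⟩ := Surjective.surj (f := π) y
    haveI : Nonempty ((π ⁻¹ᵁ W : X'.Opens) : Scheme.{u}) := ⟨⟨z, show π z ∈ W from hz ▸ hyW⟩⟩
    obtain rfl := CohCmpLib.eq_one_of_rank_one_free (AmpleThLib.restrict_isInvertible hM _) s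
    exact ⟨W, hyW, ⟨s' ≪≫ BlowRegLib.freeOne _⟩⟩
  haveI := hiso
  exact ⟨_, hinv, (pullA_clA _ _).trans ((clA_eq_iff _ _).2
    ⟨asIso ((Scheme.Modules.pullbackPushforwardAdjunction π).counit.app M)⟩)⟩

include k hd2 in
/-- **Picard group of the blow-up.** -/
theorem exists_decomp {F : X'.Modules} (hF : PicF.IsInvertible F) :
    ∃ (L : X.Modules) (hL : PicF.IsInvertible L) (d : ℤ),
      clA hF = pullA π (clA hL) + d • eCl π x hx hπ := by
  obtain ⟨φ, hφ, -, he⟩ := exists_line (k := k) π x hx hd2 hπ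
  haveI := hφ
  obtain ⟨d, ⟨e⟩⟩ := BlowRegLib.exists_deg (k := k) φ hF
  have hd : pullA (excI π x hx).subschemeι (clA hF) = d • pullA φ (clA (PicPnLib.twist_inv 1 k 1)) := by
    rw [← map_zsmul, ← clA_twist, pullA_clA, pullA_clA]
    exact (clA_eq_iff _ _).2 ⟨e⟩
  obtain ⟨J, hJ, hJe⟩ := exists_clA_zsmul (excI_invertible π x hx hπ) (-d)
  have hM := HilbPolyLib.isInvertible_tensor hF hJ
  obtain ⟨L, hL, hLe⟩ := exists_descent (k := k) π x hx hd2 hπ hM (by
    rw [clA_tensor hF hJ, map_add, hd, hJe, map_zsmul, ← he, eCl, ← add_smul, add_neg_cancel, zero_smul])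
  refine ⟨L, hL, d, ?_⟩
  rw [hLe, clA_tensor hF hJ, hJe, eCl, add_assoc, ← add_smul, neg_add_cancel, zero_smul, add_zero]

include hover hd2 in
/-- **Numerically trivial classes on the blow-up.** -/
theorem numTriv_decomp {F : X'.Modules} (hF : PicF.IsInvertible F) {L : X.Modules} (hL : PicF.IsInvertible L)
    (d : ℤ) (h : clA hF = pullA π (clA hL) + d • eCl π x hx hπ) :
    NumTrivLib.NT k F ↔ d = 0 ∧ NumTrivLib.NT k L := by
  haveI := CurvLib.isNoetherian k (X := X)
  haveI := surjective (k := k) π x hx hd2 hπ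
  have h0 : d = 0 → Nonempty (F ≅ pb π L) := fun hd => by
    rw [hd, zero_smul, add_zero, pullA_clA, clA_eq_iff] at h
    exact h
  refine ⟨fun hn => ?_, fun ⟨hd, hn⟩ => ?_⟩
  · have hd : d = 0 := by
      obtain ⟨φ, hφ, hφk, he⟩ := exists_line (k := k) π x hx hd2 hπ
      haveI := hφ
      have hdeg : pullA (excI π x hx).subschemeι (clA hF) = pullA φ (clA (PicPnLib.twist_inv 1 k d)) := by
        rw [h, map_add, pullA_exc_pullback π x hx hL, zero_add, map_zsmul, he, ← map_zsmul, ← clA_twist]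
      rw [pullA_clA, pullA_clA, clA_eq_iff] at hdeg
      obtain ⟨e⟩ := hdeg
      let J := excI π x hx
      haveI : IsIntegral (CohB1.ProjSpace 1 k) := VBP1Lib.isIntegral_line k
      haveI : IsIntegral J.subscheme := by
        haveI : Nonempty J.subscheme := ⟨inv φ (Classical.arbitrary (CohB1.ProjSpace 1 k))⟩
        exact isIntegral_of_isOpenImmersion φ
      letI : J.subscheme.Over (Spec (CommRingCat.of k)) := ⟨J.subschemeι ≫ (X' ↘ Spec (CommRingCat.of k))⟩
      haveI : IsProper (J.subscheme ↘ Spec (CommRingCat.of k)) :=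
        inferInstanceAs (IsProper (J.subschemeι ≫ (X' ↘ Spec (CommRingCat.of k))))
      letI : (CohB1.ProjSpace 1 k).Over (Spec (CommRingCat.of k)) := ⟨CohB1.ProjSpace.toSpec 1 k⟩
      have hE : ∀ n : ℤ, Curv2.euler k J.subscheme (pb φ (Twist.twistProjSpace 1 k n)) = n + 1 := fun n => by
        haveI : Coh.IsQCoh (Twist.twistProjSpace 1 k n) :=
          FinLFAnn.isQCoh_of_isFinLocFree (AmpleDevLib.isFinLocFree_of_isInvertible (PicPnLib.twist_inv 1 k n))
        rw [BlowPtLib.euler_pb_iso φ (hφk.trans (congrArg (J.subschemeι ≫ ·) hover)) (Twist.twistProjSpace 1 k n),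
          BlowPtLib.euler_twist_line rfl]
      have hdimE : topologicalKrullDim J.subscheme = 1 := by
        rw [φ.homeomorph.isHomeomorph.topologicalKrullDim_eq, GenusZeroLib.dim_projSpace k 1]
        norm_num
      have hd1 : topologicalKrullDim J.subscheme ≤ ((1 : ℕ) : WithBot ℕ∞) := by rw [hdimE, Nat.cast_one]
      have hq := (NumTrivLib.NT.isNumEquivZero hn) J.subscheme J.subschemeι inferInstance hdimE
      simp only [Pic13.curveDeg] at hq
      rw [HilbPolyLib.eulerCharLE_eq (k := k) hd1, HilbPolyLib.eulerCharLE_eq (k := k) hd1] at hq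
      obtain ⟨z⟩ := PicPnLib.twist_zero 1 k
      rw [CurvLib.euler_congr (k := k) e, hE,
        ← CurvLib.euler_congr (k := k) ((Scheme.Modules.pullback φ).mapIso z ≪≫ KFlatLib.pullUnitIso φ), hE] at hq
      omega
    obtain ⟨e⟩ := h0 hd
    exact ⟨hd, NumTrivLib.NT.descend hover hL (hn.iso e)⟩
  · obtain ⟨e⟩ := h0 hd
    exact (hn.pullback hover).iso e.symm

end NumBlowLib

end
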